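import Groth.Prelude.Def_CohCx

/-! # Cohomology of a limit of complexes of abelian groups -/

set_option autoImplicit false

universe u

open CategoryTheory Limits Opposite

namespace Groth.Agent.LimCxLib

variable {K K' : CochainComplex AddCommGrpCat.{u} ℤ} {m : ℤ}

/-- `z` represents the class `c` -/
def Rep (K : CochainComplex AddCommGrpCat.{u} ℤ) (m : ℤ) (c : K.homology m) (z : K.X m) : Prop :=
  ∃ w : K.cycles m, K.iCycles m w = z ∧ K.homologyπ m w = c

lemma Rep.d_eq {c : K.homology m} {z : K.X m} (h : Rep K m c z) (j : ℤ) : K.d m j z = 0 := by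
  obtain ⟨w, rfl, -⟩ := h
  exact (ConcreteCategory.congr_hom (K.iCycles_d m j) w).trans rfl

lemma exists_rep (c : K.homology m) : ∃ z, Rep K m c z := by
  obtain ⟨w, hw⟩ := (AddCommGrpCat.epi_iff_surjective (K.homologyπ m)).1 inferInstance c
  exact ⟨_, w, rfl, hw⟩

lemma exists_rep_of_cycle (z : K.X m) (hz : K.d m (m + 1) z = 0) : ∃ c, Rep K m c z := by
  have hS : (ShortComplex.mk (K.iCycles m) (K.d m (m + 1)) (K.iCycles_d m (m + 1))).Exact :=
    ShortComplex.exact_of_f_is_kernel _ (K.cyclesIsKernel m (m + 1) (by simp))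
  obtain ⟨w, hw⟩ := (ShortComplex.ab_exact_iff _).1 hS z hz
  exact ⟨_, w, hw, rfl⟩

lemma Rep.unique {c c' : K.homology m} {z : K.X m} (h : Rep K m c z) (h' : Rep K m c' z) : c = c' := by
  obtain ⟨w, rfl, rfl⟩ := h
  obtain ⟨w', e, rfl⟩ := h'
  rw [(AddCommGrpCat.mono_iff_injective (K.iCycles m)).1 inferInstance e]

lemma Rep.add {c c' : K.homology m} {z z' : K.X m} (h : Rep K m c z) (h' : Rep K m c' z') :
    Rep K m (c + c') (z + z') := by
  obtain ⟨w, rfl, rfl⟩ := h
  obtain ⟨w', rfl, rfl⟩ := h'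
  exact ⟨w + w', map_add _ _ _, map_add _ _ _⟩

lemma Rep.sub {c c' : K.homology m} {z z' : K.X m} (h : Rep K m c z) (h' : Rep K m c' z') :
    Rep K m (c - c') (z - z') := by
  obtain ⟨w, rfl, rfl⟩ := h
  obtain ⟨w', rfl, rfl⟩ := h'
  exact ⟨w - w', map_sub _ _ _, map_sub _ _ _⟩

lemma Rep.map (f : K ⟶ K') {c : K.homology m} {z : K.X m} (h : Rep K m c z) :
    Rep K' m (HomologicalComplex.homologyMap f m c) (f.f m z) := by
  obtain ⟨w, rfl, rfl⟩ := h
  exact ⟨HomologicalComplex.cyclesMap f m w,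
    ConcreteCategory.congr_hom (HomologicalComplex.cyclesMap_i f m) w,
    (ConcreteCategory.congr_hom (HomologicalComplex.homologyπ_naturality f m) w).symm⟩

lemma rep_boundary (q : ℤ) (hq : q + 1 = m) (x : K.X q) : Rep K m 0 (K.d q m x) :=
  ⟨K.toCycles q m x, ConcreteCategory.congr_hom (K.toCycles_i q m) x,
    (ConcreteCategory.congr_hom (K.toCycles_comp_homologyπ q m) x).trans rfl⟩

lemma Rep.exists_boundary {z : K.X m} (h : Rep K m 0 z) (q : ℤ) (hq : q + 1 = m) :
    ∃ x, K.d q m x = z := by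
  obtain ⟨w, rfl, hw⟩ := h
  have hS : (ShortComplex.mk (K.toCycles q m) (K.homologyπ m) (K.toCycles_comp_homologyπ q m)).Exact :=
    ShortComplex.exact_of_g_is_cokernel _ (K.homologyIsCokernel q m (by simp; omega))
  obtain ⟨x, rfl⟩ := (ShortComplex.ab_exact_iff _).1 hS w hw
  exact ⟨x, (ConcreteCategory.congr_hom (K.toCycles_i q m) x).symm⟩

variable (S : ℕᵒᵖ ⥤ CochainComplex AddCommGrpCat.{u} ℤ)

/-- transition -/
abbrev dn {i j : ℕ} (h : i ≤ j) : S.obj (op j) ⟶ S.obj (op i) := S.map (homOfLE h).op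

/-- elements of the limit are compatible sequences -/
def IsLimCone (c : Cone S) : Prop :=
  ∀ (j : ℤ) (s : ∀ n, (S.obj (op n)).X j), (∀ n, (dn S (Nat.le_succ n)).f j (s (n + 1)) = s n) →
    ∃! x : c.pt.X j, ∀ n, (c.π.app (op n)).f j x = s n

lemma π_dn (c : Cone S) {i j : ℕ} (h : i ≤ j) : c.π.app (op j) ≫ dn S h = c.π.app (op i) :=
  c.w (homOfLE h).op

lemma π_dn_apply (c : Cone S) {i j : ℕ} (h : i ≤ j) (q : ℤ) (x : c.pt.X q) :
    (dn S h).f q ((c.π.app (op j)).f q x) = (c.π.app (op i)).f q x :=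
  ConcreteCategory.congr_hom (congrArg (fun g => HomologicalComplex.Hom.f g q) (π_dn S c h)) x

lemma H_dn_comp {i j k : ℕ} (h : i ≤ j) (h' : j ≤ k) (m : ℤ) (y : (S.obj (op k)).homology m) :
    HomologicalComplex.homologyMap (dn S h) m (HomologicalComplex.homologyMap (dn S h') m y) =
      HomologicalComplex.homologyMap (dn S (h.trans h')) m y := by
  have e : dn S h' ≫ dn S h = dn S (h.trans h') := by
    rw [← S.map_comp]
    exact congrArg S.map (Subsingleton.elim _ _)
  rw [← e, HomologicalComplex.homologyMap_comp]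
  rfl

theorem bijective_homologyMap_π (c : Cone S) (hlim : IsLimCone S c) (m : ℤ) (n₀ : ℕ)
    (ha : ∀ j : ℤ, (j = m - 2 ∨ j = m - 1) → CohCx.LimOneIsZero (fun n => (S.obj (op n)).X j)
      (fun n => ((dn S (Nat.le_succ n)).f j).hom))
    (hb : CohCx.LimOneIsZero (fun n => (S.obj (op n)).homology (m - 1))
      (fun n => (HomologicalComplex.homologyMap (dn S (Nat.le_succ n)) (m - 1)).hom))
    (hc : ∀ N, ∀ h : n₀ ≤ N, Function.Bijective (HomologicalComplex.homologyMap (dn S h) m)) :
    Function.Bijective (HomologicalComplex.homologyMap (c.π.app (op n₀)) m) := by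
  refine ⟨(injective_iff_map_eq_zero _).2 fun ξ hξ => ?_, fun c₀ => ?_⟩
  · obtain ⟨z, hz⟩ := exists_rep ξ
    have h0 : ∀ n, Rep _ m 0 ((c.π.app (op n)).f m z) := by
      intro n
      have h1 : HomologicalComplex.homologyMap (c.π.app (op (n₀ + n))) m ξ = 0 := by
        refine (hc _ (Nat.le_add_right n₀ n)).1 (Eq.trans ?_ (map_zero _).symm)
        refine Eq.trans ?_ hξ
        rw [← π_dn S c (Nat.le_add_right n₀ n), HomologicalComplex.homologyMap_comp]
        rfl
      have h2 := ((hz.map (c.π.app (op (n₀ + n)))).map (dn S (Nat.le_add_left n n₀)))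
      rw [h1, map_zero] at h2
      rwa [π_dn_apply] at h2
    choose w hw using fun n => (h0 n).exists_boundary (m - 1) (by omega)
    let D : ∀ n, (S.obj (op n)).X (m - 1) := fun n => w n - (dn S (Nat.le_succ n)).f (m - 1) (w (n + 1))
    have hD : ∀ n, (S.obj (op n)).d (m - 1) (m - 1 + 1) (D n) = 0 := fun n => by
      have e : (S.obj (op n)).d (m - 1) m (D n) = 0 := by
        rw [map_sub, hw, ← ConcreteCategory.comp_apply, (dn S (Nat.le_succ n)).comm, ConcreteCategory.comp_apply,
          hw, π_dn_apply, sub_self]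
      have hm : m - 1 + 1 = m := by omega
      rw [hm]
      exact e
    choose e he using fun n => exists_rep_of_cycle (D n) (hD n)
    obtain ⟨a, ha'⟩ := hb e
    choose u' hu' using fun n => exists_rep (a n)
    have h3 : ∀ n, Rep _ (m - 1) 0 (D n - (u' n - (dn S (Nat.le_succ n)).f (m - 1) (u' (n + 1)))) := fun n => by
      have h := (he n).sub ((hu' n).sub ((hu' (n + 1)).map (dn S (Nat.le_succ n))))
      have e' := congrFun ha' n
      dsimp only at e'
      rw [e', sub_self] at h
      exact h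
    choose v hv using fun n => (h3 n).exists_boundary (m - 2) (by omega)
    obtain ⟨b, hb'⟩ := ha (m - 2) (Or.inl rfl) v
    let w' : ∀ n, (S.obj (op n)).X (m - 1) := fun n => w n - u' n - (S.obj (op n)).d (m - 2) (m - 1) (b n)
    have hw' : ∀ n, (dn S (Nat.le_succ n)).f (m - 1) (w' (n + 1)) = w' n := fun n => by
      have e' := congrFun hb' n
      dsimp only at e'
      have e'' := congrArg ((S.obj (op n)).d (m - 2) (m - 1)) e'
      rw [hv, map_sub] at e''
      have ecomm : (S.obj (op n)).d (m - 2) (m - 1) ((dn S (Nat.le_succ n)).f (m - 2) (b (n + 1))) =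
          (dn S (Nat.le_succ n)).f (m - 1) ((S.obj (op (n + 1))).d (m - 2) (m - 1) (b (n + 1))) :=
        ConcreteCategory.congr_hom ((dn S (Nat.le_succ n)).comm (m - 2) (m - 1)) (b (n + 1))
      simp only [w', map_sub]
      rw [← ecomm]
      simp only [D] at e''
      rw [← sub_eq_zero] at e'' ⊢
      rw [← e'']
      abel
    obtain ⟨x, hx, -⟩ := hlim (m - 1) w' hw'
    have hdx : c.pt.d (m - 1) m x = z := by
      refine (hlim m (fun n => (c.π.app (op n)).f m z) fun n => π_dn_apply S c _ m z).unique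
        (fun n => ?_) (fun n => rfl)
      refine (ConcreteCategory.congr_hom ((c.π.app (op n)).comm _ _) x).symm.trans ?_
      rw [ConcreteCategory.comp_apply, hx]
      simp only [w', map_sub, hw, (hu' n).d_eq, sub_zero]
      rw [← ConcreteCategory.comp_apply, HomologicalComplex.d_comp_d]
      simp
    exact hz.unique (hdx ▸ rep_boundary (m - 1) (by omega) x)
  · choose y hy using fun N : ℕ => (hc (n₀ + N) (Nat.le_add_right n₀ N)).2 c₀
    let cl : ∀ n, (S.obj (op n)).homology m := fun n =>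
      HomologicalComplex.homologyMap (dn S (Nat.le_add_left n n₀)) m (y n)
    have hcl : ∀ n, HomologicalComplex.homologyMap (dn S (Nat.le_succ n)) m (cl (n + 1)) = cl n := fun n => by
      have e : HomologicalComplex.homologyMap (dn S (Nat.le_succ (n₀ + n))) m (y (n + 1)) = y n := by
        refine (hc (n₀ + n) (Nat.le_add_right _ _)).1 ?_
        rw [H_dn_comp, hy n]
        exact hy (n + 1)
      simp only [cl]
      rw [← e, H_dn_comp, H_dn_comp]
    choose z hz using fun n => exists_rep (cl n)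
    have h3 : ∀ n, Rep _ m 0 (z n - (dn S (Nat.le_succ n)).f m (z (n + 1))) := fun n => by
      have h := (hz n).sub ((hz (n + 1)).map (dn S (Nat.le_succ n)))
      rwa [hcl, sub_self] at h
    choose v hv using fun n => (h3 n).exists_boundary (m - 1) (by omega)
    obtain ⟨b, hb'⟩ := ha (m - 1) (Or.inr rfl) v
    let z' : ∀ n, (S.obj (op n)).X m := fun n => z n - (S.obj (op n)).d (m - 1) m (b n)
    have hz' : ∀ n, (dn S (Nat.le_succ n)).f m (z' (n + 1)) = z' n := fun n => by
      have e' := congrFun hb' n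
      dsimp only at e'
      have e'' := congrArg ((S.obj (op n)).d (m - 1) m) e'
      rw [hv, map_sub] at e''
      have ecomm : (S.obj (op n)).d (m - 1) m ((dn S (Nat.le_succ n)).f (m - 1) (b (n + 1))) =
          (dn S (Nat.le_succ n)).f m ((S.obj (op (n + 1))).d (m - 1) m (b (n + 1))) :=
        ConcreteCategory.congr_hom ((dn S (Nat.le_succ n)).comm (m - 1) m) (b (n + 1))
      simp only [z', map_sub]
      rw [← ecomm]
      rw [← sub_eq_zero] at e'' ⊢
      rw [← e'']
      abel
    obtain ⟨x, hx, -⟩ := hlim m z' hz'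
    have hdx : c.pt.d m (m + 1) x = 0 := by
      refine (hlim (m + 1) (fun n => 0) fun n => map_zero _).unique (fun n => ?_) (fun n => map_zero _)
      refine (ConcreteCategory.congr_hom ((c.π.app (op n)).comm _ _) x).symm.trans ?_
      rw [ConcreteCategory.comp_apply, hx]
      simp only [z', map_sub, (hz n).d_eq, zero_sub, neg_eq_zero]
      rw [← ConcreteCategory.comp_apply, HomologicalComplex.d_comp_d]
      simp
    obtain ⟨ξ, hξ⟩ := exists_rep_of_cycle x hdx
    refine ⟨ξ, ?_⟩
    have h4 := hξ.map (c.π.app (op n₀))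
    rw [hx] at h4
    have h5 := (hz n₀).sub (rep_boundary (K := S.obj (op n₀)) (m := m) (m - 1) (by omega) (b n₀))
    rw [sub_zero] at h5
    refine (h4.unique h5).trans ?_
    exact hy n₀

end Groth.Agent.LimCxLib
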