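import Groth.Agent.LimCxLib.Pure
import Groth.Agent.CohTopLib.Basic
import Mathlib.CategoryTheory.Sites.LocallyBijective

/-! # Cohomology sheaves of limits of complexes -/

set_option autoImplicit false
set_option backward.isDefEq.respectTransparency false

noncomputable section

universe u

open CategoryTheory Limits TopologicalSpace Opposite

namespace Groth.Agent.LimCxLib

variable {X : TopCat.{u}}

/-- sheafification -/
abbrev pTS (X : TopCat.{u}) : ((Opens X)ᵒᵖ ⥤ AddCommGrpCat.{u}) ⥤ CohTop.Ab X :=
  presheafToSheaf (Opens.grothendieckTopology X) AddCommGrpCat.{u}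

/-- complexes of sheaves as complexes of presheaves -/
abbrev preF : CochainComplex (CohTop.Ab X) ℤ ⥤ CochainComplex ((Opens X)ᵒᵖ ⥤ AddCommGrpCat.{u}) ℤ :=
  (sheafToPresheaf (Opens.grothendieckTopology X) AddCommGrpCat.{u}).mapHomologicalComplex _

lemma isLocallyBijective_of_basis {P Q : (Opens X)ᵒᵖ ⥤ AddCommGrpCat.{u}} (g : P ⟶ Q) (B : Set (Opens X))
    (hB : Opens.IsBasis B) (h : ∀ U ∈ B, Function.Bijective (g.app (op U))) :
    Presheaf.IsLocallyInjective (Opens.grothendieckTopology X) g ∧
      Presheaf.IsLocallySurjective (Opens.grothendieckTopology X) g := by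
  refine ⟨⟨fun {V} a b hab => ?_⟩, (TopCat.Presheaf.isLocallySurjective_iff g).2 fun U s x hx => ?_⟩
  · intro x hx
    obtain ⟨W, hW, hxW, hWV⟩ := Opens.isBasis_iff_nbhd.1 hB hx
    refine ⟨W, homOfLE hWV, ?_, hxW⟩
    refine (h W hW).1 ?_
    exact (ConcreteCategory.congr_hom (g.naturality (homOfLE hWV).op) a).trans
      ((congrArg (Q.map (homOfLE hWV).op) hab).trans
        (ConcreteCategory.congr_hom (g.naturality (homOfLE hWV).op) b).symm)
  · obtain ⟨W, hW, hxW, hWV⟩ := Opens.isBasis_iff_nbhd.1 hB hx
    exact ⟨W, hWV, (h W hW).2 _, hxW⟩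

/-- homology sheaves are sheafified homology presheaves, naturally -/
theorem isIso_homologyMap_of_basis {K L : CochainComplex (CohTop.Ab X) ℤ} (φ : K ⟶ L) (m : ℤ)
    (B : Set (Opens X)) (hB : Opens.IsBasis B)
    (h : ∀ U ∈ B, IsIso (HomologicalComplex.homologyMap
      ((CohCx.sectCx (Opens.grothendieckTopology X) U).map φ) m)) :
    IsIso (HomologicalComplex.homologyMap φ m) := by
  let g : (preF.obj K).homology m ⟶ (preF.obj L).homology m :=
    HomologicalComplex.homologyMap (preF.map φ) m
  have hb : ∀ U ∈ B, Function.Bijective (g.app (op U)) := fun U hU => by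
    haveI : IsIso (g.app (op U)) := by
      let ev := (evaluation (Opens X)ᵒᵖ AddCommGrpCat.{u}).obj (op U)
      let s : (preF.obj K).sc m ⟶ (preF.obj L).sc m :=
        (HomologicalComplex.shortComplexFunctor _ (ComplexShape.up ℤ) m).map (preF.map φ)
      have hn := ShortComplex.mapHomologyIso_hom_naturality s ev
      haveI : IsIso (ShortComplex.homologyMap (ev.mapShortComplex.map s)) := h U hU
      haveI : IsIso ((((preF.obj K).sc m).mapHomologyIso ev).hom ≫ g.app (op U)) := by
        show IsIso ((((preF.obj K).sc m).mapHomologyIso ev).hom ≫ ev.map (ShortComplex.homologyMap s))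
        rw [← hn]; infer_instance
      exact IsIso.of_isIso_comp_left (((preF.obj K).sc m).mapHomologyIso ev).hom (g.app (op U))
    exact ConcreteCategory.bijective_of_isIso _
  obtain ⟨h1, h2⟩ := isLocallyBijective_of_basis g B hB hb
  have hW : (Opens.grothendieckTopology X).W g :=
    (Opens.grothendieckTopology X).W_of_isLocallyBijective g
  haveI : IsIso ((pTS X).map g) := (GrothendieckTopology.W_iff _ g).1 hW
  let e : 𝟭 (CohTop.Ab X) ≅ sheafToPresheaf (Opens.grothendieckTopology X) AddCommGrpCat.{u} ⋙ (pTS X) :=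
    (asIso (sheafificationAdjunction (Opens.grothendieckTopology X) AddCommGrpCat.{u}).counit).symm
  let E := NatIso.mapHomologicalComplex e (ComplexShape.up ℤ)
  let s : (preF.obj K).sc m ⟶ (preF.obj L).sc m :=
    (HomologicalComplex.shortComplexFunctor _ (ComplexShape.up ℤ) m).map (preF.map φ)
  have hn := ShortComplex.mapHomologyIso_hom_naturality s (pTS X)
  haveI : IsIso ((pTS X).map (ShortComplex.homologyMap s)) := inferInstanceAs (IsIso ((pTS X).map g))
  haveI : IsIso (ShortComplex.homologyMap ((pTS X).mapShortComplex.map s) ≫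
      (((preF.obj L).sc m).mapHomologyIso (pTS X)).hom) := by
    rw [hn]; infer_instance
  haveI : IsIso (ShortComplex.homologyMap ((pTS X).mapShortComplex.map s)) :=
    IsIso.of_isIso_comp_right _ (((preF.obj L).sc m).mapHomologyIso (pTS X)).hom
  let Φ := (sheafToPresheaf (Opens.grothendieckTopology X) AddCommGrpCat.{u} ⋙ (pTS X)).mapHomologicalComplex (ComplexShape.up ℤ)
  haveI : IsIso (HomologicalComplex.homologyMap (Φ.map φ) m) :=
    inferInstanceAs (IsIso (ShortComplex.homologyMap ((pTS X).mapShortComplex.map s)))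
  have hE : HomologicalComplex.homologyMap φ m ≫ HomologicalComplex.homologyMap (E.hom.app L) m =
      HomologicalComplex.homologyMap (E.hom.app K) m ≫ HomologicalComplex.homologyMap (Φ.map φ) m := by
    rw [← HomologicalComplex.homologyMap_comp, ← HomologicalComplex.homologyMap_comp]
    exact congrArg (HomologicalComplex.homologyMap · m) (E.hom.naturality φ)
  haveI : IsIso (HomologicalComplex.homologyMap φ m ≫ HomologicalComplex.homologyMap (E.hom.app L) m) := by
    rw [hE]; infer_instance
  exact IsIso.of_isIso_comp_right _ (HomologicalComplex.homologyMap (E.hom.app L) m)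

variable (F : ℕ → CochainComplex (CohTop.Ab X) ℤ) (t : ∀ n, F (n + 1) ⟶ F n)

lemma transition_eq (n k : ℕ) :
    CohCx.transition F t n k = (CohCx.opSequence F t).map (homOfLE (Nat.le_add_right n k)).op := by
  induction k with
  | zero => exact ((CohCx.opSequence F t).map_id _).symm
  | succ k ih =>
    show t (n + k) ≫ CohCx.transition F t n k = _
    rw [ih, ← Functor.ofOpSequence_map_homOfLE_succ t (n + k), ← Functor.map_comp]
    exact congrArg (CohCx.opSequence F t).map (Subsingleton.elim _ _)

theorem isIso_homologyMap_limit (m : ℤ) (B : Set (Opens X)) (hB : Opens.IsBasis B) (n₀ : ℕ)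
    (ha : ∀ U ∈ B, ∀ j : ℤ, (j = m - 2 ∨ j = m - 1) →
      CohCx.LimOneIsZero (fun n => ((F n).X j).obj.obj (op U)) (fun n => (((t n).f j).hom.app (op U)).hom))
    (hb : ∀ U ∈ B, CohCx.LimOneIsZero
      (fun n => ((CohCx.sectCx (Opens.grothendieckTopology X) U).obj (F n)).homology (m - 1))
      (fun n => (HomologicalComplex.homologyMap ((CohCx.sectCx (Opens.grothendieckTopology X) U).map (t n))
        (m - 1)).hom))
    (hc : ∀ U ∈ B, ∀ k : ℕ, IsIso (HomologicalComplex.homologyMap
      ((CohCx.sectCx (Opens.grothendieckTopology X) U).map (CohCx.transition F t n₀ k)) m)) :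
    IsIso (HomologicalComplex.homologyMap (limit.π (CohCx.opSequence F t) (op n₀)) m) := by
  refine isIso_homologyMap_of_basis _ m B hB fun U hU => ?_
  let Sec := CohCx.sectCx (Opens.grothendieckTopology X) U
  let S := CohCx.opSequence F t ⋙ Sec
  let c : Cone S := Sec.mapCone (limit.cone _)
  have hdn : ∀ n, dn S (Nat.le_succ n) = Sec.map (t n) := fun n =>
    congrArg Sec.map (Functor.ofOpSequence_map_homOfLE_succ t n)
  have hlim : IsLimCone S c := by
    intro j s hs
    let G := HomologicalComplex.eval (CohTop.Ab X) (ComplexShape.up ℤ) j ⋙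
      (sheafToPresheaf _ AddCommGrpCat.{u} ⋙ (evaluation _ _).obj (op U)) ⋙ forget AddCommGrpCat.{u}
    have hl := isLimitOfPreserves G (limit.isLimit (CohCx.opSequence F t))
    have key : ∀ k i, ∀ h : i ≤ i + k, (dn S h).f j (s (i + k)) = s i := by
      intro k
      induction k with
      | zero =>
        intro i h
        show ((S.map (homOfLE h).op).f j) (s i) = s i
        rw [show (homOfLE h).op = 𝟙 (op i) from Subsingleton.elim _ _]
        exact (congrArg (fun q => (q : S.obj (op i) ⟶ S.obj (op i)).f j (s i)) (S.map_id (op i))).trans rfl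
      | succ k ih =>
        intro i h
        have e : dn S (Nat.le_succ (i + k)) ≫ dn S (Nat.le_add_right i k) = dn S h := by
          rw [← S.map_comp]
          exact congrArg S.map (Subsingleton.elim _ _)
        rw [← e]
        exact (congrArg ((dn S (Nat.le_add_right i k)).f j) (hs (i + k))).trans (ih i _)
    obtain ⟨x, hx, hu⟩ := (Types.isLimit_iff _).1 ⟨hl⟩ (fun n => s n.unop) (by
      rintro ⟨a⟩ ⟨b⟩ ⟨⟨f⟩⟩
      obtain ⟨k, rfl⟩ := Nat.le.dest f.down
      exact key k b (Nat.le_add_right b k))
    exact ⟨x, fun n => hx (op n), fun y hy => hu y fun n => hy n.unop⟩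
  refine (ConcreteCategory.isIso_iff_bijective _).2
    (bijective_homologyMap_π S c hlim m n₀ (fun j hj => ?_) ?_ fun N h => ?_)
  · have := ha U hU j hj
    simp only [hdn]
    exact this
  · have := hb U hU
    simp only [hdn]
    exact this
  · obtain ⟨k, rfl⟩ := Nat.le.dest h
    haveI := hc U hU k
    have e : dn S h = Sec.map (CohCx.transition F t n₀ k) := congrArg Sec.map (transition_eq F t n₀ k).symm
    rw [e]
    exact ConcreteCategory.bijective_of_isIso _

end Groth.Agent.LimCxLib
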